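import Groth.Agent.Pic13.H939.Covers
import Groth.Agent.Pic13.H936.AmpFam
import Groth.Agent.Pic13.H941.PerfAmp
import Mathlib.CategoryTheory.ObjectProperty.FiniteProducts

/-!
# Global resolutions of complexes of perfect amplitude by sums of negative powers of an ample family
-/

set_option autoImplicit false
universe u v
open CategoryTheory CategoryTheory.Limits AlgebraicGeometry TopologicalSpace ZeroObject
attribute [local instance] HasDerivedCategory.standard

namespace Groth.Agent.Pic13.H939.AmpRes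

open Groth.Agent.Dcoh Groth.Agent.Dcoh.StrPerf Groth.Agent.Dcoh.LocalD Groth.Agent.PerfB.LeftRes
  Groth.Agent.PerfB.ResolTrunc Groth.Agent.PerfB.ResolLocal Groth.Agent.PerfB
  Groth.Agent.Pic13.H939.Covers Groth.Agent.Pic13.H941.PerfAmp

variable {X : Scheme.{u}}

section InAddL

variable {ι : Type v} (L : ι → X.Modules)

/-- The additive class `L(X)` as an object property. -/
def addL : ObjectProperty X.Modules := fun M => KSix.InAddL L M

instance : (addL L).IsClosedUnderIsomorphisms where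
  of_iso e := fun ⟨k, N, hN, ⟨a⟩⟩ => ⟨k, N, hN, ⟨e.symm ≪≫ a⟩⟩

theorem addL_of_isZero {M : X.Modules} (h : IsZero M) : addL L M := by
  refine ⟨0, fun j => j.elim0, fun j => j.elim0, ⟨?_⟩⟩
  refine h.iso ?_
  rw [IsZero.iff_id_eq_zero]
  apply biproduct.hom_ext
  intro j
  exact j.elim0

instance : (addL L).ContainsZero where
  exists_zero := ⟨FlatMod.freeMod X 0, FinLocFree.isZero_freeMod_zero X,
    addL_of_isZero L (FinLocFree.isZero_freeMod_zero X)⟩

theorem isInvertible_of_iso {M N : X.Modules} (e : M ≅ N) (hM : PicF.IsInvertible M) :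
    PicF.IsInvertible N := by
  intro x
  obtain ⟨U, hU, ⟨φ⟩⟩ := hM x
  exact ⟨U, hU, ⟨(Scheme.Modules.restrictFunctor U.ι).mapIso e.symm ≪≫ φ⟩⟩

theorem isInvertible_of_isNegPower (hL : ∀ i, PicF.IsInvertible (L i)) {M : X.Modules}
    (h : KSix.IsNegPower L M) : PicF.IsInvertible M := by
  obtain ⟨i, k, -, ⟨e⟩⟩ := h
  obtain ⟨N, hN, ⟨e'⟩⟩ :=
    Grpsch.PicGrp.exists_inverse (Fdesc.LocGen.isInvertible_tensorPow (hL i) k)
  let a : M ≅ N := ((PerfB.TensInv.tensorInvIso e').app M).symm ≪≫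
    (DCoh.tensorRightMod N).mapIso e ≪≫ Ega2.Tens.lunit N
  exact isInvertible_of_iso a.symm hN

instance : (FLF X).IsClosedUnderBinaryProducts where
  limitsOfShape_le := by
    rintro M ⟨p⟩
    have h1 := p.prop_diag_obj ⟨WalkingPair.left⟩
    have h2 := p.prop_diag_obj ⟨WalkingPair.right⟩
    let e : M ≅ (p.diag.obj ⟨WalkingPair.left⟩) ⊞ (p.diag.obj ⟨WalkingPair.right⟩) :=
      IsLimit.conePointUniqueUpToIso p.isLimit
        ((IsLimit.postcomposeHomEquiv (diagramIsoPair p.diag).symm _).symm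
          (BinaryBiproduct.isLimit _ _))
    exact (FLF X).prop_of_iso e.symm (FinLocFree.isFinLocFree_biprod h1 h2)

instance : (FLF X).IsClosedUnderFiniteProducts := .mk'

theorem flf_biproduct {k : ℕ} (N : Fin k → X.Modules) (hN : ∀ j, FlatMod.IsFinLocFree (N j)) :
    FlatMod.IsFinLocFree (⨁ N) :=
  (FLF X).prop_of_isLimit_fan (biproduct.isLimit N) hN

theorem flf_of_addL (hL : ∀ i, PicF.IsInvertible (L i)) {M : X.Modules} (h : addL L M) :
    FlatMod.IsFinLocFree M := by
  obtain ⟨k, N, hN, ⟨e⟩⟩ := h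
  exact (FLF X).prop_of_iso e.symm (flf_biproduct N fun j =>
    Ega2.QCohLocal.isFinLocFree_of_rank
      (Ega2.QCohLocal.isFinLocFreeOfRank_one_iff.mpr (isInvertible_of_isNegPower L hL (hN j))))

theorem covering_addL (hL : KSix.IsAmpleFamily L) : Covering (addL L) := fun M hM hM' =>
  H936.AmpFam.exists_inAddL L hL M hM hM'

end InAddL

/-- Complexes of perfect amplitude in `[m, n]` have cohomology in degrees `[m, n]`. -/
theorem isZero_HD {K : DCoh.D X} {m n : ℤ} (hK : KSix.HasPerfectAmplitudeIn m n K) (i : ℤ)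
    (hi : i < m ∨ n < i) : IsZero (DCoh.HD K i) := by
  refine PerfA.Restrict.isZero_of_restrict_opens _ fun x => ?_
  obtain ⟨V, hx, E, hE, hE', ⟨a⟩⟩ := (hasPerfectAmplitudeIn_iff_locally m n K).1 hK x
  refine ⟨V, hx, ?_⟩
  have h1 : IsZero (E.homology i) :=
    (HomologicalComplex.ExactAt.of_isZero (hE i hi)).isZero_homology
  exact h1.of_iso ((HDRestrict V.ι K i).symm ≪≫ (DerivedCategory.homologyFunctor _ i).mapIso a ≪≫
    homologyQ E i)

/-- Global resolutions of objects of perfect amplitude in `[m, n]` by modules of a class `P`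
covering the quasi-coherent modules of finite type. -/
theorem exists_resolution_of_covering {P : ObjectProperty X.Modules}
    [P.IsClosedUnderIsomorphisms] [P.ContainsZero] [CompactSpace X] [QuasiSeparatedSpace X]
    (hP : Covering P) (hPF : ∀ M, P M → FlatMod.IsFinLocFree M) (K : DCoh.D X) (m n : ℤ)
    (hmn : m ≤ n) (hK : KSix.HasPerfectAmplitudeIn m n K) :
    ∃ F : CochainComplex X.Modules ℤ, DCoh.VanishesOutside F m n ∧ (∀ i : ℤ, m < i → P (F.X i)) ∧
      FlatMod.IsFinLocFree (F.X m) ∧ Nonempty (DCoh.toD X F ≅ K) := by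
  have hX := hP.hasResolutionProperty hPF
  have hKp : DCoh.IsPerfect K := isPerfect_of_hasPerfectAmplitudeIn hK
  have hGE : K.IsGE m := by
    rw [DerivedCategory.isGE_iff]
    exact fun i hi => isZero_HD hK i (Or.inl hi)
  have hLE : K.IsLE n := by
    rw [DerivedCategory.isLE_iff]
    exact fun i hi => isZero_HD hK i (Or.inr hi)
  obtain ⟨M, hMq, hMge, hMle, ⟨e⟩⟩ :=
    exists_qcoh_model X hX K (ResolQCx.isQCohD_of_isPerfect K hKp) m n
  have hMp : DCoh.IsPerfect (DCoh.toD X M) := isPerfect_of_iso e.symm hKp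
  obtain ⟨S⟩ := Stage.nonempty (P := P) (K := M) (b := n)
    (fun i hi => HomologicalComplex.ExactAt.of_isZero (M.isZero_of_isStrictlyLE n i hi)) (m - 1)
    (hasCoversGE hP hPF M n (m - 1) hMq hMp)
  have hF : DCoh.IsStrictlyPerfect S.F := ⟨⟨m - 1, n, fun i hi => by
    rcases hi with hi | hi
    · exact S.zeroLT i hi
    · exact S.zeroGT i hi⟩, fun i => hPF _ (S.prop i)⟩
  have h1 : FLF X (S.F.opcycles m) := by
    have := flf_opcycles S.F hF (DerivedCategory.Q.obj M)
      (DerivedCategory.Q.map S.f) (m - 1) S.zeroLT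
      (fun i hi => isIso_of_quasiIsoAt S.f i (S.quasiIsoAt i hi))
      (fun x => by
        obtain ⟨V, hx, E, hE, hE', ⟨a⟩⟩ := (hasPerfectAmplitudeIn_iff_locally m n K).1 hK x
        exact ⟨V, hx, E, ⟨⟨m, n, hE⟩, hE'⟩, fun i hi => hE i (Or.inl (by lia)),
          ⟨(DCoh.restrictD V.ι).mapIso e ≪≫ a⟩⟩)
    rwa [sub_add_cancel] at this
  have h2 : QuasiIso (CochainComplex.truncGEMap S.f m) := by
    rw [CochainComplex.quasiIso_truncGEMap_iff]
    exact fun i hi => S.quasiIsoAt i (by lia)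
  refine ⟨S.F.truncGE m, ?_, ?_, ?_, ⟨?_⟩⟩
  · rintro i (hi | hi)
    · exact (S.F.truncGE m).isZero_of_isStrictlyGE m i hi
    · exact (S.zeroGT i hi).of_iso (S.F.truncGEXIso m i (by lia))
  · intro i hi
    exact P.prop_of_iso (S.F.truncGEXIso m i hi).symm (S.prop i)
  · exact (FLF X).prop_of_iso (S.F.truncGEXIsoOpcycles m).symm h1
  · let q := CochainComplex.truncGEMap S.f m ≫ inv (M.πTruncGE m)
    have hq : QuasiIso q := inferInstance
    rw [← DerivedCategory.isIso_Q_map_iff_quasiIso] at hq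
    exact asIso (DerivedCategory.Q.map q) ≪≫ e

/-- S4273 (no separation hypothesis is needed). -/
theorem exists_resolution {ι : Type v} (L : ι → X.Modules) (hL : KSix.IsAmpleFamily L)
    (K : DCoh.D X) (m n : ℤ) (hK : KSix.HasPerfectAmplitudeIn m n K) :
    ∃ F : CochainComplex X.Modules ℤ, DCoh.VanishesOutside F m n ∧
      (∀ i : ℤ, m < i → KSix.InAddL L (F.X i)) ∧
      FlatMod.IsFinLocFree (F.X m) ∧ Nonempty (DCoh.toD X F ≅ K) := by
  have hc : CompactSpace X := hL.1
  have hqs : QuasiSeparatedSpace X := hL.2.1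
  by_cases hmn : m ≤ n
  · exact exists_resolution_of_covering (covering_addL L hL) (fun M => flf_of_addL L hL.2.2.1) K
      m n hmn hK
  · have h0 : ∀ i, IsZero (DCoh.HD K i) := fun i => isZero_HD hK i (by lia)
    have hK0 : IsZero K := (PerfA.ExactD.isZero_iff K).2 h0
    have hz : IsZero (0 : CochainComplex X.Modules ℤ) := isZero_zero _
    have hz' : ∀ i, IsZero ((0 : CochainComplex X.Modules ℤ).X i) := fun i =>
      (HomologicalComplex.eval _ _ i).map_isZero hz
    refine ⟨0, fun i _ => hz' i, fun i _ => addL_of_isZero L (hz' i),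
      FinLocFree.isFinLocFree_of_isZero (hz' m), ⟨?_⟩⟩
    exact (DerivedCategory.Q.map_isZero hz).iso hK0

end Groth.Agent.Pic13.H939.AmpRes
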