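import Groth.Agent.PerfB.ResolMain
import Groth.Agent.PerfB.ResolLift

/-!
# Resolutions by modules of a class covering all quasi-coherent modules of finite type

`P` is a class of finite locally free modules (closed under isomorphisms, containing zero) such that
every quasi-coherent module of finite type is a quotient of a member of `P`.
-/

set_option autoImplicit false
universe u
open CategoryTheory CategoryTheory.Limits AlgebraicGeometry TopologicalSpace
attribute [local instance] HasDerivedCategory.standard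

namespace Groth.Agent.Pic13.H939.Covers

open Groth.Agent.Dcoh Groth.Agent.Dcoh.StrPerf Groth.Agent.PerfB.LeftRes
  Groth.Agent.PerfB.ResolTrunc Groth.Agent.PerfB.ResolLocal Groth.Agent.PerfA.QCohSerre
  Groth.Agent.PerfB Groth.Agent.PerfB.ResolMain Groth.Agent.PerfB.ResolLift
  Groth.Agent.PerfB.ResolQCx

variable {X : Scheme.{u}}

/-- Every quasi-coherent module of finite type is a quotient of a member of `P`. -/
def Covering (P : ObjectProperty X.Modules) : Prop :=
  ∀ M : X.Modules, Coh.IsQCoh M → CohB1.IsFT M → ∃ (E : X.Modules) (π : E ⟶ M), P E ∧ Epi π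

theorem Covering.hasResolutionProperty {P : ObjectProperty X.Modules} (hP : Covering P)
    (hPF : ∀ M, P M → FlatMod.IsFinLocFree M) : PerfAux.HasResolutionProperty X := by
  intro M hM hM'
  obtain ⟨E, π, hE, hπ⟩ := hP M hM hM'
  exact ⟨E, π, hPF E hE, hπ⟩

/-- The covering property needed to construct resolutions by modules in `P`. -/
theorem hasCoversGE [CompactSpace ↥X] [QuasiSeparatedSpace ↥X] {P : ObjectProperty X.Modules}
    (hP : Covering P) (hPF : ∀ M, P M → FlatMod.IsFinLocFree M) (K : CochainComplex X.Modules ℤ)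
    (b m : ℤ) (hq : ∀ n, Coh.IsQCoh (K.X n)) (hK : DCoh.IsPerfect (DCoh.toD X K)) :
    HasCoversGE P K b m := by
  intro n _ _ S
  have hF : DCoh.IsStrictlyPerfect S.F := ⟨⟨n + 1, b, fun i hi => by
    rcases hi with hi | hi
    · exact S.zeroLT i hi
    · exact S.zeroGT i hi⟩, fun i => hPF _ (S.prop i)⟩
  have hFq : ∀ i, Coh.IsQCoh (S.F.X i) :=
    fun i => ResolQC.isQCoh_of_isFinLocFree (hPF _ (S.prop i))
  have hCq := isQCoh_mappingCone_X S.f hFq hq
  have hC : DCoh.IsPerfect (DerivedCategory.Q.obj (CochainComplex.mappingCone S.f)) :=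
    (Groth.Agent.S0887.result _ (DerivedCategory.mappingCone_triangle_distinguished S.f)).1
      (LocalD.isPerfect_Q hF) hK
  have hft : CohB1.IsFT ((CochainComplex.mappingCone S.f).homology n) :=
    CohqB.FiniteType.IsFT.of_iso (isFT_HD_of_isPerfect _ hC n fun i hi =>
      (exactAt_iff_isZero_HD _ i).1 (S.exactAt_mappingCone i hi)) (homologyQ _ n)
  obtain ⟨M, j, hM, hM', -, hj⟩ := PerfC.FTExt.exists_isFT_mono_epi (isQCoh_cycles _ hCq n)
    (isQCoh_homology _ hCq n) hft ((CochainComplex.mappingCone S.f).homologyπ n)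
  obtain ⟨E, π, hE, hπ⟩ := hP M hM hM'
  refine ⟨E, hE, π ≫ j, ?_⟩
  rw [Category.assoc]
  exact epi_comp' hπ hj

/-- A bounded object of `D_QCoh(O_X)`, concentrated in cohomological degrees `[a, b]`, is given by a
complex of quasi-coherent modules placed in degrees `[a, b]` (resolution property). -/
theorem exists_qcoh_model (X : Scheme.{u}) [CompactSpace ↥X] [QuasiSeparatedSpace ↥X]
    (hX : PerfAux.HasResolutionProperty X) (K : DCoh.D X) (hK : DCoh.IsQCohD K) (a b : ℤ)
    [K.IsGE a] [K.IsLE b] :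
    ∃ M : CochainComplex X.Modules ℤ, (∀ n, Coh.IsQCoh (M.X n)) ∧ M.IsStrictlyGE a ∧
      M.IsStrictlyLE b ∧ Nonempty (DCoh.toD X M ≅ K) := by
  obtain ⟨-, -, h3⟩ := incl_spec X hX
  obtain ⟨M, ⟨e⟩⟩ := (h3 K).1 hK
  have h4 : ((incl X).obj M).IsGE a := DerivedCategory.TStructure.t.isGE_of_iso e.symm a
  have h5 : ((incl X).obj M).IsLE b := DerivedCategory.TStructure.t.isLE_of_iso e.symm b
  have := isGE_of_incl M a
  have := isLE_of_incl M b
  obtain ⟨M', hM'₁, hM'₂, ⟨e'⟩⟩ := DerivedCategory.exists_iso_Q_obj_of_isGE_of_isLE M a b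
  exact ⟨(inclCx X).obj M', isQCoh_inclCx M', isStrictlyGE_inclCx M' a, isStrictlyLE_inclCx M' b,
    ⟨(inclQ.app M').symm ≪≫ (incl X).mapIso e'.symm ≪≫ e⟩⟩

end Groth.Agent.Pic13.H939.Covers
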